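import Mathlib
import Cfsg.Prelude.Def_QuasithinSetup
import Cfsg.Prelude.Def_Amalgam

/-!
# S1851 (A-S 1.2.9: overgroups in L(G,T) of a member of L_f(G,T) are in L_f(G,T)): shared definitions

Driver: helper9.  Namespace `Cfsg.Agent.S1851P`.

`ZO Y = Ω₁(Z(O₂(Y)))` for a subgroup `Y` of `G`, as a subgroup of `G`; the module of `Y` is
`moduleV Y = ⁅ZO Y, Y⁆` (by definition).
-/

set_option autoImplicit false

namespace Cfsg.Agent.S1851P

open Subgroup Cfsg

/-- `Ω₁(Z(O₂(Y)))` as a subgroup of the ambient group. -/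
def ZO {G : Type*} [Group G] (Y : Subgroup G) : Subgroup G :=
  omegaOne 2 (pCoreTwoOf Y ⊓ centralizer (pCoreTwoOf Y : Set G))

theorem moduleV_eq {G : Type*} [Group G] (Y : Subgroup G) : moduleV Y = ⁅ZO Y, Y⁆ := rfl

theorem pCoreTwoOf_eq {G : Type*} [Group G] (Y : Subgroup G) : pCoreTwoOf Y = pCoreOf 2 Y := rfl

theorem ZO_eq {G : Type*} [Group G] (Y : Subgroup G) :
    ZO Y = omegaOne 2 (pCoreOf 2 Y ⊓ centralizer (pCoreOf 2 Y : Set G)) := rfl

end Cfsg.Agent.S1851P
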