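import Mathlib
import Cfsg.Agent.Helper9.S1851.Defs
import Cfsg.Agent.Helper14.Large2

/-! S1851: small shared lemmas (helper9): `N(Y) ≤ N(ZO Y)`, elements of `ZO Y`. -/

set_option autoImplicit false

namespace Cfsg.Agent.S1851P

open Subgroup Cfsg

namespace LIB

variable {G : Type*} [Group G]

/-- the set of elements of order `≤ 2` of `Z(P)` -/
theorem mem_ZO_iff (Y : Subgroup G) (x : G) :
    x ∈ ZO Y ↔ x ∈ pCoreOf 2 Y ∧ x ∈ centralizer (pCoreOf 2 Y : Set G) ∧ x ^ 2 = 1 := by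
  constructor
  · intro hx
    unfold ZO omegaOne at hx
    rw [pCoreTwoOf_eq] at hx
    induction hx using Subgroup.closure_induction with
    | mem y hy => exact ⟨hy.1.1, hy.1.2, hy.2⟩
    | one => exact ⟨one_mem _, one_mem _, one_pow _⟩
    | mul a b _ _ iha ihb =>
      refine ⟨mul_mem iha.1 ihb.1, mul_mem iha.2.1 ihb.2.1, ?_⟩
      have hc : Commute a b := by
        have := (mem_centralizer_iff.1 iha.2.1) b ihb.1
        exact this.symm
      rw [hc.mul_pow, iha.2.2, ihb.2.2, one_mul]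
    | inv a _ iha =>
      refine ⟨inv_mem iha.1, inv_mem iha.2.1, ?_⟩
      rw [inv_pow, iha.2.2, inv_one]
  · rintro ⟨h1, h2, h3⟩
    unfold ZO omegaOne
    rw [pCoreTwoOf_eq]
    exact Subgroup.subset_closure ⟨⟨h1, h2⟩, h3⟩

theorem ZO_le_pCoreOf (Y : Subgroup G) : ZO Y ≤ pCoreOf 2 Y := fun _ hx =>
  ((mem_ZO_iff Y _).1 hx).1

theorem ZO_le_centralizer (Y : Subgroup G) : ZO Y ≤ centralizer (pCoreOf 2 Y : Set G) := fun _ hx =>
  ((mem_ZO_iff Y _).1 hx).2.1

theorem pCoreOf_le_centralizer_ZO (Y : Subgroup G) : pCoreOf 2 Y ≤ centralizer (ZO Y : Set G) := by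
  rw [← Subgroup.le_centralizer_iff]
  exact ZO_le_centralizer Y

theorem sq_eq_one_of_mem_ZO {Y : Subgroup G} {x : G} (hx : x ∈ ZO Y) : x ^ 2 = 1 :=
  ((mem_ZO_iff Y _).1 hx).2.2

/-- `N(Y) ≤ N(ZO Y)` -/
theorem normalizer_le_normalizer_ZO [Finite G] (Y : Subgroup G) :
    normalizer (Y : Set G) ≤ normalizer (ZO Y : Set G) := by
  intro g hg
  have h1 : g ∈ normalizer ((pCoreOf 2 Y : Subgroup G) : Set G) :=
    Cfsg.Agent.Helper14.normalizer_le_normalizer_pCoreOf (p := 2) Y hg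
  have h2 : g ∈ normalizer ((centralizer (pCoreOf 2 Y : Set G) : Subgroup G) : Set G) :=
    Cfsg.Agent.Helper14.normalizer_le_normalizer_centralizer _ h1
  have key : ∀ k : G, k ∈ normalizer ((pCoreOf 2 Y : Subgroup G) : Set G) →
      k ∈ normalizer ((centralizer (pCoreOf 2 Y : Set G) : Subgroup G) : Set G) →
      ∀ x ∈ ZO Y, k * x * k⁻¹ ∈ ZO Y := by
    intro k hk1 hk2 x hx
    rw [mem_ZO_iff] at hx ⊢
    refine ⟨(mem_normalizer_iff.1 hk1 x).1 hx.1, (mem_normalizer_iff.1 hk2 x).1 hx.2.1, ?_⟩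
    rw [conj_pow, hx.2.2, mul_one, mul_inv_cancel]
  rw [mem_normalizer_iff]
  intro x
  constructor
  · exact key g h1 h2 x
  · intro hx
    have := key g⁻¹ (inv_mem h1) (inv_mem h2) _ hx
    have e : g⁻¹ * (g * x * g⁻¹) * g⁻¹⁻¹ = x := by group
    rwa [e] at this

/-- if `H` normalizes `Y` then `H` normalizes `C(ZO Y)` -/
theorem le_normalizer_centralizer_ZO [Finite G] {H Y : Subgroup G}
    (h : H ≤ normalizer (Y : Set G)) :
    H ≤ normalizer ((centralizer (ZO Y : Set G) : Subgroup G) : Set G) :=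
  (h.trans (normalizer_le_normalizer_ZO Y)).trans
    (Cfsg.Agent.Helper14.normalizer_le_normalizer_centralizer _)

end LIB

end Cfsg.Agent.S1851P
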